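import Mathlib.Algebra.MvPolynomial.Derivation
import Mathlib.Algebra.MvPolynomial.Expand
import Mathlib.Algebra.CharP.Two
import Mathlib.RingTheory.Ideal.Span
import Mathlib.Tactic.LinearCombination
import Mathlib.Tactic.FinCases

/-! Kernels of vector fields in characteristic two on `R[u, v]`, as modules over `R[u², v²]`. -/

namespace Groth.Agent.KumFam.CuspKernel

open MvPolynomial

variable {R : Type*} [CommRing R]

/-- `p(u, v) ↦ p(u², v²)`. -/
noncomputable abbrev E (p : MvPolynomial (Fin 2) R) : MvPolynomial (Fin 2) R := expand 2 p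

theorem E_X (i : Fin 2) : E (X i : MvPolynomial (Fin 2) R) = X i ^ 2 := expand_X 2 i

theorem E_C (r : R) : E (C r : MvPolynomial (Fin 2) R) = C r := expand_C 2 r

theorem exists_decomp (f : MvPolynomial (Fin 2) R) :
    ∃ p q r s, f = E p + E q * X 0 + E r * X 1 + E s * (X 0 * X 1) := by
  induction f using MvPolynomial.induction_on with
  | C a => exact ⟨C a, 0, 0, 0, by simp [E_C]⟩
  | add f g hf hg =>
    obtain ⟨p, q, r, s, rfl⟩ := hf; obtain ⟨p', q', r', s', rfl⟩ := hg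
    exact ⟨p + p', q + q', r + r', s + s', by simp only [E, map_add]; ring⟩
  | mul_X f i hf =>
    obtain ⟨p, q, r, s, rfl⟩ := hf
    fin_cases i
    · refine ⟨q * X 0, p, s * X 0, r, ?_⟩
      simp only [Fin.zero_eta, E, map_mul, expand_X]; ring
    · refine ⟨r * X 1, s * X 1, p, q, ?_⟩
      simp only [Fin.mk_one, E, map_mul, expand_X]; ring

theorem decomp_eq_zero {p q r s : MvPolynomial (Fin 2) R}
    (h : E p + E q * X 0 + E r * X 1 + E s * (X 0 * X 1) = 0) :
    p = 0 ∧ q = 0 ∧ r = 0 ∧ s = 0 := by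
  classical
  set e₀ : Fin 2 →₀ ℕ := Finsupp.single 0 1
  set e₁ : Fin 2 →₀ ℕ := Finsupp.single 1 1
  have h' : monomial 0 1 * E p + monomial e₀ 1 * E q + monomial e₁ 1 * E r +
      monomial (e₀ + e₁) 1 * E s = 0 := by
    rw [← h, monomial_zero', C_1, show monomial e₀ (1 : R) = X 0 from rfl,
      show monomial e₁ (1 : R) = X 1 from rfl,
      show monomial (e₀ + e₁) (1 : R) = X 0 * X 1 by rw [X, X, monomial_mul, one_mul]]
    ring
  have hoff : ∀ (e e' : Fin 2 →₀ ℕ), (∀ i, e i ≤ 1) → (∀ i, e' i ≤ 1) → e ≠ e' →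
      ∀ (d : Fin 2 →₀ ℕ) (t : MvPolynomial (Fin 2) R),
      coeff (2 • d + e) (monomial e' 1 * E t) = 0 := by
    intro e e' he he' hne d t
    rw [coeff_monomial_mul']
    split_ifs with hle
    · obtain ⟨i, hi⟩ : ∃ i, e i ≠ e' i := by
        by_contra hc; push Not at hc; exact hne (Finsupp.ext hc)
      rw [one_mul]
      refine coeff_expand_of_not_dvd (p := 2) (R := R) (φ := t) (i := i) ?_
      have := hle i
      have := he i; have := he' i
      simp only [Finsupp.coe_tsub, Finsupp.coe_add, Finsupp.coe_smul, Pi.sub_apply, Pi.add_apply,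
        Pi.smul_apply, smul_eq_mul] at *
      omega
    · rfl
  have hon : ∀ (e d : Fin 2 →₀ ℕ) (t : MvPolynomial (Fin 2) R),
      coeff (2 • d + e) (monomial e 1 * E t) = coeff d t := by
    intro e d t
    rw [coeff_monomial_mul', if_pos le_add_self, add_tsub_cancel_right, one_mul,
      coeff_expand_smul 2 two_ne_zero]
  have h0 : ∀ i : Fin 2, (0 : Fin 2 →₀ ℕ) i ≤ 1 := fun i => by simp
  have hb₀ : ∀ i : Fin 2, e₀ i ≤ 1 := fun i => by fin_cases i <;> simp [e₀]
  have hb₁ : ∀ i : Fin 2, e₁ i ≤ 1 := fun i => by fin_cases i <;> simp [e₁]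
  have hb₂ : ∀ i : Fin 2, (e₀ + e₁) i ≤ 1 := fun i => by fin_cases i <;> simp [e₀, e₁]
  have hne : (0 : Fin 2 →₀ ℕ) ≠ e₀ ∧ (0 : Fin 2 →₀ ℕ) ≠ e₁ ∧ (0 : Fin 2 →₀ ℕ) ≠ e₀ + e₁ ∧
      e₀ ≠ e₁ ∧ e₀ ≠ e₀ + e₁ ∧ e₁ ≠ e₀ + e₁ := by
    refine ⟨?_, ?_, ?_, ?_, ?_, ?_⟩ <;> intro hh <;>
      first
        | (have := DFunLike.congr_fun hh 0; simp [e₀, e₁] at this; done)
        | (have := DFunLike.congr_fun hh 1; simp [e₀, e₁] at this; done)
  obtain ⟨n1, n2, n3, n4, n5, n6⟩ := hne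
  refine ⟨?_, ?_, ?_, ?_⟩ <;> ext d <;> rw [coeff_zero]
  · have := congrArg (coeff (2 • d + 0)) h'
    simp only [coeff_add, hon, hoff _ _ h0 hb₀ n1, hoff _ _ h0 hb₁ n2, hoff _ _ h0 hb₂ n3, coeff_zero] at this
    simpa using this
  · have := congrArg (coeff (2 • d + e₀)) h'
    simp only [coeff_add, hon, hoff _ _ hb₀ h0 n1.symm, hoff _ _ hb₀ hb₁ n4,
      hoff _ _ hb₀ hb₂ n5, coeff_zero] at this
    simpa using this
  · have := congrArg (coeff (2 • d + e₁)) h'
    simp only [coeff_add, hon, hoff _ _ hb₁ h0 n2.symm, hoff _ _ hb₁ hb₀ n4.symm,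
      hoff _ _ hb₁ hb₂ n6, coeff_zero] at this
    simpa using this
  · have := congrArg (coeff (2 • d + (e₀ + e₁))) h'
    simp only [coeff_add, hon, hoff _ _ hb₂ h0 n3.symm, hoff _ _ hb₂ hb₀ n5.symm,
      hoff _ _ hb₂ hb₁ n6.symm, coeff_zero] at this
    simpa using this

theorem aeval_eq_E (x : MvPolynomial (Fin 2) R) :
    aeval ![(X 0 : MvPolynomial (Fin 2) R) ^ 2, X 1 ^ 2] x = E x := by
  change _ = expand 2 x
  congr 1
  refine algHom_ext fun i => ?_
  fin_cases i <;> simp [expand_X]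

variable [CharP R 2]

theorem derivation_E (D : Derivation R (MvPolynomial (Fin 2) R) (MvPolynomial (Fin 2) R))
    (p : MvPolynomial (Fin 2) R) : D (E p) = 0 := by
  induction p using MvPolynomial.induction_on with
  | C a => rw [E_C]; exact D.map_algebraMap a
  | add f g hf hg => simp only [E, map_add] at *; rw [hf, hg, add_zero]
  | mul_X f i hf =>
    simp only [E, map_mul, expand_X] at *
    rw [D.leibniz, hf, D.leibniz_pow]
    simp [CharTwo.two_eq_zero, two_smul, CharTwo.add_self_eq_zero]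

/-- The kernel of `a ↦ u², b ↦ v², c ↦ G` when `G² = Rel(u², v²)` and `G ∉ R[u², v²]` freely. -/
theorem ker_eq_span (G : MvPolynomial (Fin 2) R) (Rel : MvPolynomial (Fin 2) R) (hG : G ^ 2 = E Rel)
    (hind : ∀ p q, E p + E q * G = 0 → p = 0 ∧ q = 0) :
    RingHom.ker (aeval (R := R) ![X 0 ^ 2, X 1 ^ 2, G]) =
      Ideal.span {(X 2 ^ 2 + aeval ![X 0, X 1] Rel : MvPolynomial (Fin 3) R)} := by
  set φ := aeval (R := R) ![(X 0 : MvPolynomial (Fin 2) R) ^ 2, X 1 ^ 2, G]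
  let ι : MvPolynomial (Fin 2) R →ₐ[R] MvPolynomial (Fin 3) R := aeval ![X 0, X 1]
  have hφι : ∀ x, φ (ι x) = E x := by
    intro x
    rw [← aeval_eq_E x]
    change (φ.comp ι) x = _
    congr 1
    refine algHom_ext fun i => ?_
    fin_cases i <;> simp [φ, ι]
  have hφc : φ (X 2) = G := by simp [φ]
  set rel := X 2 ^ 2 + ι Rel with hrel
  have hrel0 : φ rel = 0 := by
    rw [hrel, map_add, map_pow, hφc, hφι, hG, CharTwo.add_self_eq_zero]
  have hdec : ∀ f, ∃ p q, f - (ι p + ι q * X 2) ∈ Ideal.span {rel} := by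
    intro f
    induction f using MvPolynomial.induction_on with
    | C a => exact ⟨C a, 0, by simp [ι]⟩
    | add f g hf hg =>
      obtain ⟨p, q, h1⟩ := hf; obtain ⟨p', q', h2⟩ := hg
      refine ⟨p + p', q + q', ?_⟩
      convert add_mem h1 h2 using 1
      simp only [map_add]; ring
    | mul_X f i hf =>
      obtain ⟨p, q, h1⟩ := hf
      fin_cases i
      · refine ⟨p * X 0, q * X 0, ?_⟩
        convert Ideal.mul_mem_right (X 0) _ h1 using 1
        simp [ι]; ring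
      · refine ⟨p * X 1, q * X 1, ?_⟩
        convert Ideal.mul_mem_right (X 1) _ h1 using 1
        simp [ι]; ring
      · refine ⟨q * Rel, p, ?_⟩
        convert add_mem (Ideal.mul_mem_right (X 2) _ h1)
          (Ideal.mul_mem_left _ (ι q) (Ideal.mem_span_singleton_self rel)) using 1
        simp only [Fin.reduceFinMk, map_mul, hrel]
        linear_combination -(CharTwo.two_eq_zero (R := MvPolynomial (Fin 3) R)) * (ι q * ι Rel)
  refine le_antisymm (fun f hf => ?_) ?_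
  · obtain ⟨p, q, h⟩ := hdec f
    obtain ⟨c, hc⟩ := Ideal.mem_span_singleton'.1 h
    have h1 := congrArg φ hc
    rw [map_mul, hrel0, mul_zero, map_sub, (RingHom.mem_ker).1 hf, zero_sub, eq_comm, neg_eq_zero,
      map_add, map_mul, hφι, hφι, hφc] at h1
    obtain ⟨rfl, rfl⟩ := hind p q h1
    simpa using h
  · rw [Ideal.span_le, Set.singleton_subset_iff]
    exact RingHom.mem_ker.2 hrel0

/-! ### The smooth chart -/

section Smooth

variable {l0 l2 l4 s0 s2 s4 τ : R}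

local notation "P" => (C l4 * X 0 ^ 2 + C l2 * X 0 + C l0 : MvPolynomial (Fin 2) R)
local notation "Q" => (C s4 * X 1 ^ 2 + C s2 * X 1 + C s0 : MvPolynomial (Fin 2) R)

theorem smooth_chart (hτ : IsUnit τ) :
    (∀ p : MvPolynomial (Fin 2) R, mkDerivation R
      (![C l4 * X 0 ^ 4 + C l2 * X 0 ^ 2 + C τ * X 0 + C l0,
        C s4 * X 1 ^ 4 + C s2 * X 1 ^ 2 + C τ * X 1 + C s0] : Fin 2 → MvPolynomial (Fin 2) R) p = 0 ↔
      p ∈ (aeval (R := R) (S₁ := MvPolynomial (Fin 2) R) ![X 0 ^ 2, X 1 ^ 2,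
        (C s4 * X 1 ^ 4 + C s2 * X 1 ^ 2 + C s0) * X 0 +
        (C l4 * X 0 ^ 4 + C l2 * X 0 ^ 2 + C l0) * X 1 + C τ * X 0 * X 1]).range) ∧
    RingHom.ker (aeval (R := R) (S₁ := MvPolynomial (Fin 2) R) ![X 0 ^ 2, X 1 ^ 2,
        (C s4 * X 1 ^ 4 + C s2 * X 1 ^ 2 + C s0) * X 0 +
        (C l4 * X 0 ^ 4 + C l2 * X 0 ^ 2 + C l0) * X 1 + C τ * X 0 * X 1]) =
      Ideal.span {(X 2 ^ 2 + C (τ ^ 2) * X 0 * X 1 +
        (C (s4 ^ 2) * X 1 ^ 4 + C (s2 ^ 2) * X 1 ^ 2 + C (s0 ^ 2)) * X 0 +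
        (C (l4 ^ 2) * X 0 ^ 4 + C (l2 ^ 2) * X 0 ^ 2 + C (l0 ^ 2)) * X 1 : MvPolynomial (Fin 3) R)} := by
  obtain ⟨t, ht⟩ := hτ.exists_left_inv
  have hct : (C t : MvPolynomial (Fin 2) R) * C τ = 1 := by rw [← map_mul, ht, map_one]
  have h2 : (2 : MvPolynomial (Fin 2) R) = 0 := CharTwo.two_eq_zero
  have hEP : E P = C l4 * X 0 ^ 4 + C l2 * X 0 ^ 2 + C l0 := by
    simp only [E, map_add, map_mul, map_pow, expand_C, expand_X]; ring
  have hEQ : E Q = C s4 * X 1 ^ 4 + C s2 * X 1 ^ 2 + C s0 := by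
    simp only [E, map_add, map_mul, map_pow, expand_C, expand_X]; ring
  set D := mkDerivation R (![C l4 * X 0 ^ 4 + C l2 * X 0 ^ 2 + C τ * X 0 + C l0,
    C s4 * X 1 ^ 4 + C s2 * X 1 ^ 2 + C τ * X 1 + C s0] : Fin 2 → MvPolynomial (Fin 2) R) with hD
  have hDX : D (X 0) = E P + C τ * X 0 ∧ D (X 1) = E Q + C τ * X 1 := by
    constructor <;> rw [hD, mkDerivation_X]
    · rw [hEP]; simp; ring
    · rw [hEQ]; simp; ring
  rw [← hEP, ← hEQ]
  set h := E Q * X 0 + E P * X 1 + C τ * X 0 * X 1 with hh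
  have hform : ∀ p q r s, D (E p + E q * X 0 + E r * X 1 + E s * (X 0 * X 1)) =
      E (q * P + r * Q) + E (q * C τ + s * Q) * X 0 + E (r * C τ + s * P) * X 1 +
        E 0 * (X 0 * X 1) := by
    intro p q r s
    simp only [map_add, D.leibniz, derivation_E, smul_zero, add_zero, zero_add, smul_eq_mul,
      hDX.1, hDX.2]
    simp only [E, map_add, map_mul, expand_C, map_zero]
    linear_combination (expand 2 s * C τ * X 0 * X 1) * h2
  have hDh : D h = 0 := by
    have := hform 0 Q P (C τ)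
    simp only [E, map_zero, expand_C, zero_add, zero_mul, add_zero] at this
    rw [hh, mul_assoc (C τ)]
    rw [this]
    simp only [map_add, map_mul, expand_C]
    ring_nf
    simp [h2]
  refine ⟨fun p => ⟨fun hp => ?_, ?_⟩, ?_⟩
  · obtain ⟨p, q, r, s, rfl⟩ := exists_decomp p
    rw [hform] at hp
    obtain ⟨-, hq, hr, -⟩ := decomp_eq_zero hp
    refine ⟨aeval ![X 0, X 1] p + aeval ![X 0, X 1] (C t * s) * X 2, ?_⟩
    have key : ∀ x : MvPolynomial (Fin 2) R,
        aeval (![X 0 ^ 2, X 1 ^ 2, h] : Fin 3 → MvPolynomial (Fin 2) R)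
          (aeval (![X 0, X 1] : Fin 2 → MvPolynomial (Fin 3) R) x) = E x := fun x => by
      rw [← AlgHom.comp_apply, comp_aeval, ← aeval_eq_E]
      congr 2; ext i : 1; fin_cases i <;> simp
    simp only [AlgHom.toRingHom_eq_coe, RingHom.coe_coe, map_add, map_mul, key, aeval_X,
      Matrix.cons_val]
    have eq1 : E q * C τ + E s * E Q = 0 := by
      have := congrArg (expand 2) hq; simpa [E] using this
    have eq2 : E r * C τ + E s * E P = 0 := by
      have := congrArg (expand 2) hr; simpa [E] using this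
    simp only [E, map_mul, expand_C, hh]
    linear_combination C t * X 0 * eq1 + C t * X 1 * eq2 +
      (expand 2 s * X 0 * X 1 - expand 2 q * X 0 - expand 2 r * X 1) * hct -
      (X 0 * expand 2 q + X 1 * expand 2 r) * h2
  · rintro ⟨x, rfl⟩
    induction x using MvPolynomial.induction_on with
    | C a => simp
    | add f g hf hg => simp only [map_add] at *; rw [hf, hg, add_zero]
    | mul_X f i hf =>
      simp only [AlgHom.toRingHom_eq_coe, RingHom.coe_coe, map_mul] at *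
      rw [D.leibniz, hf, smul_zero, add_zero, aeval_X]
      fin_cases i
      · simp only [Fin.zero_eta, Matrix.cons_val]
        rw [← E_X, derivation_E, smul_zero]
      · simp only [Fin.mk_one, Matrix.cons_val]
        rw [← E_X 1, derivation_E, smul_zero]
      · simp [hDh]
  · rw [ker_eq_span h (C (τ ^ 2) * X 0 * X 1 + Q ^ 2 * X 0 + P ^ 2 * X 1)]
    · congr 2
      simp only [map_add, map_mul, map_pow, aeval_C, aeval_X, Matrix.cons_val, algebraMap_eq]
      linear_combination (C s4 * C s2 * X 1 ^ 3 + C s4 * C s0 * X 1 ^ 2 + C s2 * C s0 * X 1) * X 0 *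
          (CharTwo.two_eq_zero (R := MvPolynomial (Fin 3) R)) +
        (C l4 * C l2 * X 0 ^ 3 + C l4 * C l0 * X 0 ^ 2 + C l2 * C l0 * X 0) * X 1 *
          (CharTwo.two_eq_zero (R := MvPolynomial (Fin 3) R))
    · simp only [hh, E, map_add, map_mul, map_pow, expand_C, expand_X]
      linear_combination ((C s4 * (X 1 ^ 2) ^ 2 + C s2 * X 1 ^ 2 + C s0) *
          (C l4 * (X 0 ^ 2) ^ 2 + C l2 * X 0 ^ 2 + C l0) * X 0 * X 1 +
        (C s4 * (X 1 ^ 2) ^ 2 + C s2 * X 1 ^ 2 + C s0) * C τ * X 0 ^ 2 * X 1 +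
        (C l4 * (X 0 ^ 2) ^ 2 + C l2 * X 0 ^ 2 + C l0) * C τ * X 0 * X 1 ^ 2) * h2
    · intro p q hpq
      have h' : E p + E (q * Q) * X 0 + E (q * P) * X 1 + E (q * C τ) * (X 0 * X 1) = 0 := by
        rw [← hpq, hh]
        simp only [E, map_add, map_mul, expand_C]; ring
      obtain ⟨hp, -, -, hq⟩ := decomp_eq_zero h'
      exact ⟨hp, by linear_combination C t * hq - q * hct⟩

end Smooth

/-! ### The cuspidal chart -/

section Cusp

variable {l0 l2 l4 s0 s2 s4 τ : R}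

local notation "U" => (C l0 * X 0 ^ 2 + C l2 * X 0 + C l4 : MvPolynomial (Fin 2) R)
local notation "S" => (C s0 * X 1 ^ 2 + C s2 * X 1 + C s4 : MvPolynomial (Fin 2) R)
local notation "g₀" => ((C s0 * X 1 ^ 4 + C s2 * X 1 ^ 2 + C s4) * X 0 ^ 3 +
  (C l0 * X 0 ^ 4 + C l2 * X 0 ^ 2 + C l4) * X 1 ^ 3 + C τ * X 0 ^ 3 * X 1 ^ 3 : MvPolynomial (Fin 2) R)

theorem cusp_eq : g₀ = E (X 0 * S) * X 0 + E (X 1 * U) * X 1 + E (C τ * X 0 * X 1) * (X 0 * X 1) := by
  simp only [E, map_add, map_mul, map_pow, expand_C, expand_X]; ring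

theorem cusp_kernel (hτ : IsUnit τ) :
    RingHom.ker (aeval (R := R) (S₁ := MvPolynomial (Fin 2) R) ![X 0 ^ 2, X 1 ^ 2, g₀]) =
      Ideal.span {(X 2 ^ 2 + C (s0 ^ 2) * X 0 ^ 3 * X 1 ^ 4 + C (s2 ^ 2) * X 0 ^ 3 * X 1 ^ 2 +
        C (s4 ^ 2) * X 0 ^ 3 + C (l0 ^ 2) * X 0 ^ 4 * X 1 ^ 3 + C (l2 ^ 2) * X 0 ^ 2 * X 1 ^ 3 +
        C (l4 ^ 2) * X 1 ^ 3 + C (τ ^ 2) * X 0 ^ 3 * X 1 ^ 3 : MvPolynomial (Fin 3) R)} := by
  obtain ⟨t, ht⟩ := hτ.exists_left_inv
  have hct : (C t : MvPolynomial (Fin 2) R) * C τ = 1 := by rw [← map_mul, ht, map_one]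
  have h2 : (2 : MvPolynomial (Fin 2) R) = 0 := CharTwo.two_eq_zero
  rw [ker_eq_span g₀ (S ^ 2 * X 0 ^ 3 + U ^ 2 * X 1 ^ 3 + C (τ ^ 2) * X 0 ^ 3 * X 1 ^ 3)]
  · congr 2
    simp only [map_add, map_mul, map_pow, aeval_C, aeval_X, Matrix.cons_val, algebraMap_eq]
    linear_combination (C s0 * C s2 * X 1 ^ 3 + C s0 * C s4 * X 1 ^ 2 + C s2 * C s4 * X 1) *
        X 0 ^ 3 * (CharTwo.two_eq_zero (R := MvPolynomial (Fin 3) R)) +
      (C l0 * C l2 * X 0 ^ 3 + C l0 * C l4 * X 0 ^ 2 + C l2 * C l4 * X 0) * X 1 ^ 3 *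
        (CharTwo.two_eq_zero (R := MvPolynomial (Fin 3) R))
  · simp only [E, map_add, map_mul, map_pow, expand_C, expand_X]
    linear_combination ((C s0 * X 1 ^ 4 + C s2 * X 1 ^ 2 + C s4) *
        (C l0 * X 0 ^ 4 + C l2 * X 0 ^ 2 + C l4) * X 0 ^ 3 * X 1 ^ 3 +
      (C s0 * X 1 ^ 4 + C s2 * X 1 ^ 2 + C s4) * C τ * X 0 ^ 6 * X 1 ^ 3 +
      (C l0 * X 0 ^ 4 + C l2 * X 0 ^ 2 + C l4) * C τ * X 0 ^ 3 * X 1 ^ 6) * h2
  · intro p q hpq
    have h' : E p + E (q * (X 0 * S)) * X 0 + E (q * (X 1 * U)) * X 1 +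
        E (q * (C τ * X 0 * X 1)) * (X 0 * X 1) = 0 := by
      rw [← hpq, cusp_eq]
      simp only [E, map_add, map_mul, expand_C]; ring
    obtain ⟨hp, -, -, hq⟩ := decomp_eq_zero h'
    have h3 : q * (C τ * X 0) = 0 := by
      refine (X_mul_cancel_left_iff (i := 1)).1 ?_
      rw [mul_zero]; linear_combination hq
    have h4 : q * C τ = 0 := by
      refine (X_mul_cancel_left_iff (i := 0)).1 ?_
      rw [mul_zero]; linear_combination h3
    exact ⟨hp, by linear_combination C t * h4 - q * hct⟩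

theorem cusp_invariants (hτ : IsUnit τ) (a : MvPolynomial (Fin 2) R)
    (ha : a ∈ Algebra.adjoin R ({X 0 ^ 2, X 0 ^ 3, X 1 ^ 2, X 1 ^ 3} : Set (MvPolynomial (Fin 2) R))) :
    mkDerivation R (![X 1 ^ 2 * (C l0 * X 0 ^ 4 + C τ * X 0 ^ 3 + C l2 * X 0 ^ 2 + C l4),
      X 0 ^ 2 * (C s0 * X 1 ^ 4 + C τ * X 1 ^ 3 + C s2 * X 1 ^ 2 + C s4)] :
        Fin 2 → MvPolynomial (Fin 2) R) a = 0 ↔
      a ∈ Algebra.adjoin R ({X 0 ^ 2, X 1 ^ 2, g₀} : Set (MvPolynomial (Fin 2) R)) := by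
  obtain ⟨t, ht⟩ := hτ.exists_left_inv
  have hct : (C t : MvPolynomial (Fin 2) R) * C τ = 1 := by rw [← map_mul, ht, map_one]
  have h2 : (2 : MvPolynomial (Fin 2) R) = 0 := CharTwo.two_eq_zero
  set D := mkDerivation R (![X 1 ^ 2 * (C l0 * X 0 ^ 4 + C τ * X 0 ^ 3 + C l2 * X 0 ^ 2 + C l4),
    X 0 ^ 2 * (C s0 * X 1 ^ 4 + C τ * X 1 ^ 3 + C s2 * X 1 ^ 2 + C s4)] :
      Fin 2 → MvPolynomial (Fin 2) R) with hD
  have hDX : D (X 0) = E (X 1 * U) + E (C τ * X 0 * X 1) * X 0 ∧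
      D (X 1) = E (X 0 * S) + E (C τ * X 0 * X 1) * X 1 := by
    constructor <;> rw [hD, mkDerivation_X] <;>
      simp only [E, map_add, map_mul, map_pow, expand_C, expand_X, Matrix.cons_val] <;> ring
  have hform : ∀ p q r s, D (E p + E q * X 0 + E r * X 1 + E s * (X 0 * X 1)) =
      E (q * (X 1 * U) + r * (X 0 * S)) + E (q * (C τ * X 0 * X 1) + s * (X 0 * S)) * X 0 +
        E (r * (C τ * X 0 * X 1) + s * (X 1 * U)) * X 1 + E 0 * (X 0 * X 1) := by
    intro p q r s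
    simp only [map_add, D.leibniz, derivation_E, smul_zero, add_zero, zero_add, smul_eq_mul,
      hDX.1, hDX.2]
    simp only [E, map_add, map_mul, expand_C, map_zero]
    linear_combination (expand 2 s * (C τ * expand 2 (X 0) * expand 2 (X 1)) * X 0 * X 1) * h2
  constructor
  · intro hDa
    have hA : ∃ p q r s, a = E p + E (q * X 0) * X 0 + E (r * X 1) * X 1 +
        E (s * X 0 * X 1) * (X 0 * X 1) := by
      clear hDa
      induction ha using Algebra.adjoin_induction with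
      | mem x hx =>
        rcases hx with rfl | rfl | rfl | rfl
        · exact ⟨X 0, 0, 0, 0, by simp [E]⟩
        · exact ⟨0, 1, 0, 0, by simp [E]; ring⟩
        · exact ⟨X 1, 0, 0, 0, by simp [E]⟩
        · exact ⟨0, 0, 1, 0, by simp [E]; ring⟩
      | algebraMap r => exact ⟨C r, 0, 0, 0, by simp [E]⟩
      | add x y _ _ hx hy =>
        obtain ⟨p, q, r, s, rfl⟩ := hx; obtain ⟨p', q', r', s', rfl⟩ := hy
        exact ⟨p + p', q + q', r + r', s + s', by simp only [E, map_add, add_mul, map_mul]; ring⟩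
      | mul x y _ _ hx hy =>
        obtain ⟨p, q, r, s, rfl⟩ := hx; obtain ⟨p', q', r', s', rfl⟩ := hy
        refine ⟨p * p' + q * q' * X 0 ^ 3 + r * r' * X 1 ^ 3 + s * s' * X 0 ^ 3 * X 1 ^ 3,
          p * q' + q * p' + (r * s' + s * r') * X 1 ^ 3,
          p * r' + r * p' + (q * s' + s * q') * X 0 ^ 3,
          p * s' + s * p' + q * r' + r * q', ?_⟩
        simp only [E, map_add, map_mul, map_pow, expand_X]; ring
    obtain ⟨p, q, r, s, rfl⟩ := hA
    rw [hform] at hDa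
    obtain ⟨-, hq, hr, -⟩ := decomp_eq_zero hDa
    have hq' : q * C τ + s * S = 0 := by
      refine (X_mul_cancel_left_iff (i := 0)).1 ?_
      refine (X_mul_cancel_left_iff (i := 0)).1 ?_
      refine (X_mul_cancel_left_iff (i := 1)).1 ?_
      rw [mul_zero, mul_zero, mul_zero]; linear_combination hq
    have hr' : r * C τ + s * U = 0 := by
      refine (X_mul_cancel_left_iff (i := 1)).1 ?_
      refine (X_mul_cancel_left_iff (i := 1)).1 ?_
      refine (X_mul_cancel_left_iff (i := 0)).1 ?_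
      rw [mul_zero, mul_zero, mul_zero]; linear_combination hr
    have hEmem : ∀ x, E x ∈ Algebra.adjoin R ({X 0 ^ 2, X 1 ^ 2, g₀} : Set (MvPolynomial (Fin 2) R)) := by
      intro x
      induction x using MvPolynomial.induction_on with
      | C c => rw [E_C]; exact Subalgebra.algebraMap_mem _ c
      | add f g hf hg => simp only [E, map_add] at *; exact add_mem hf hg
      | mul_X f i hf =>
        simp only [E, map_mul, expand_X] at *
        refine mul_mem hf (Algebra.subset_adjoin ?_)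
        fin_cases i <;> simp
    have hEq : E p + E (q * X 0) * X 0 + E (r * X 1) * X 1 + E (s * X 0 * X 1) * (X 0 * X 1) =
        E p + E (C t * s) * g₀ := by
      rw [cusp_eq]
      have eq1 : E q * C τ + E s * E S = 0 := by
        have := congrArg (expand 2) hq'; simpa [E] using this
      have eq2 : E r * C τ + E s * E U = 0 := by
        have := congrArg (expand 2) hr'; simpa [E] using this
      simp only [E, map_mul, expand_C, expand_X] at *
      linear_combination C t * X 0 ^ 3 * eq1 + C t * X 1 ^ 3 * eq2 -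
        (expand 2 q * X 0 ^ 3 + expand 2 r * X 1 ^ 3 + expand 2 s * X 0 ^ 3 * X 1 ^ 3) * hct -
        (expand 2 (S) * expand 2 s * C t * X 0 ^ 3 + expand 2 (U) * expand 2 s * C t * X 1 ^ 3) * h2
    rw [hEq]
    exact add_mem (hEmem p) (mul_mem (hEmem _) (Algebra.subset_adjoin (by simp)))
  · intro hmem
    clear ha
    induction hmem using Algebra.adjoin_induction with
    | mem x hx =>
      rcases hx with rfl | rfl | rfl
      · rw [← E_X]; exact derivation_E D _
      · rw [← E_X]; exact derivation_E D _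
      · rw [cusp_eq]
        have := hform 0 (X 0 * S) (X 1 * U) (C τ * X 0 * X 1)
        simp only [E, map_zero, zero_add] at this ⊢
        rw [this]
        simp only [map_add, map_mul, map_zero, expand_C, expand_X]
        ring_nf
        simp [h2]
    | algebraMap r => exact D.map_algebraMap r
    | add x y _ _ hx hy => rw [map_add, hx, hy, add_zero]
    | mul x y _ _ hx hy => rw [D.leibniz, hx, hy, smul_zero, smul_zero, add_zero]

end Cusp

end Groth.Agent.KumFam.CuspKernel
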