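import Mathlib.RingTheory.MvPowerSeries.Substitution
import Mathlib.RingTheory.MvPowerSeries.Order
import Mathlib.Tactic.LinearCombination
import Mathlib.LinearAlgebra.Matrix.NonsingularInverse

/-! Inverse function theorem for substitution endomorphisms of multivariate power series. -/

namespace Groth.Agent.KumFam

open MvPowerSeries Finsupp

variable {R : Type*} [CommRing R] {σ : Type*}

/-- All coefficients in degree `< n` vanish. -/
def VanishBelow (n : ℕ) (f : MvPowerSeries σ R) : Prop := ∀ d, degree d < n → coeff d f = 0

theorem vanishBelow_iff {n : ℕ} {f : MvPowerSeries σ R} :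
    VanishBelow n f ↔ (n : ℕ∞) ≤ f.order :=
  ⟨nat_le_order, fun h d hd => coeff_of_lt_order (lt_of_lt_of_le (by exact_mod_cast hd) h)⟩

theorem VanishBelow.mul {n m : ℕ} {f g : MvPowerSeries σ R}
    (hf : VanishBelow n f) (hg : VanishBelow m g) : VanishBelow (n + m) (f * g) := by
  rw [vanishBelow_iff] at *
  push_cast
  exact (add_le_add hf hg).trans le_order_mul

theorem VanishBelow.mono {n m : ℕ} (h : m ≤ n) {f : MvPowerSeries σ R}
    (hf : VanishBelow n f) : VanishBelow m f :=
  fun d hd => hf d (hd.trans_le h)

theorem VanishBelow.add {n : ℕ} {f g : MvPowerSeries σ R}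
    (hf : VanishBelow n f) (hg : VanishBelow n g) : VanishBelow n (f + g) := by
  intro d hd; simp [hf d hd, hg d hd]

theorem vanishBelow_one_iff {f : MvPowerSeries σ R} :
    VanishBelow 1 f ↔ constantCoeff f = 0 := by
  refine ⟨fun h => ?_, fun h d hd => ?_⟩
  · rw [← coeff_zero_eq_constantCoeff_apply]; exact h 0 (by simp)
  · have : d = 0 := (Finsupp.degree_eq_zero_iff d).1 (by omega)
    rw [this, coeff_zero_eq_constantCoeff_apply]; exact h

theorem vanishBelow_monomial (e : σ →₀ ℕ) (r : R) :
    VanishBelow (degree e) (monomial e r) := by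
  classical
  intro d hd
  rw [coeff_monomial, if_neg]
  rintro rfl; omega

theorem vanishBelow_prodX (e : σ →₀ ℕ) :
    VanishBelow (degree e) (e.prod fun s k => (X s : MvPowerSeries σ R) ^ k) := by
  rw [← monomial_one_eq]; exact vanishBelow_monomial e 1

/-- Tangent to the identity. -/
def IsTangentId (a : σ → MvPowerSeries σ R) : Prop := ∀ i, VanishBelow 2 (a i - X i)

theorem IsTangentId.const {a : σ → MvPowerSeries σ R} (ha : IsTangentId a) (i : σ) :
    constantCoeff (a i) = 0 := by
  have := vanishBelow_one_iff.1 ((ha i).mono (by norm_num : 1 ≤ 2))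
  simpa using this

theorem IsTangentId.prod {a : σ → MvPowerSeries σ R} (ha : IsTangentId a) (e : σ →₀ ℕ) :
    VanishBelow (degree e + 1)
      ((e.prod fun s k => a s ^ k) - monomial e (1 : R)) := by
  classical
  rw [monomial_one_eq]
  -- statement for pure powers
  have hpow : ∀ (s : σ) (k : ℕ), VanishBelow (k + 1) (a s ^ k - (X s : MvPowerSeries σ R) ^ k) := by
    intro s k
    induction k with
    | zero => simp [VanishBelow]
    | succ k ih =>
      have e1 : a s ^ (k + 1) - X s ^ (k + 1)
          = (a s ^ k - X s ^ k) * a s + X s ^ k * (a s - X s) := by ring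
      rw [e1]
      refine VanishBelow.add ((ih.mul (vanishBelow_one_iff.2 (ha.const s))).mono (by omega)) ?_
      refine (VanishBelow.mul (n := k) ?_ (ha s)).mono (by omega)
      rw [X_pow_eq]; simpa using vanishBelow_monomial (R := R) (Finsupp.single s k) 1
  induction e using Finsupp.induction with
  | zero => simp [VanishBelow]
  | single_add s k e hs hk ih =>
    rw [Finsupp.prod_add_index' (fun _ => pow_zero _) (fun _ _ _ => pow_add _ _ _),
      Finsupp.prod_add_index' (fun _ => pow_zero _) (fun _ _ _ => pow_add _ _ _),
      Finsupp.prod_single_index (h := fun s k => a s ^ k) (pow_zero _),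
      Finsupp.prod_single_index (h := fun s k => (X s : MvPowerSeries σ R) ^ k) (pow_zero _)]
    set P := e.prod fun s k => a s ^ k
    set Q := e.prod fun s k => (X s : MvPowerSeries σ R) ^ k
    have e1 : a s ^ k * P - X s ^ k * Q
        = (a s ^ k - X s ^ k) * P + X s ^ k * (P - Q) := by ring
    have hd : degree (Finsupp.single s k + e) = k + degree e := by simp [map_add]
    rw [e1, hd]
    refine VanishBelow.add ?_ ?_
    · have hP : VanishBelow (degree e) P := by
        have hQ : VanishBelow (degree e) Q := vanishBelow_prodX e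
        have := (ih.mono (Nat.le_succ _)).add hQ
        simpa using this
      exact ((hpow s k).mul hP).mono (by omega)
    · refine (VanishBelow.mul (n := k) ?_ ih).mono (by omega)
      rw [X_pow_eq]; simpa using vanishBelow_monomial (R := R) (Finsupp.single s k) 1

theorem hasSubst_of_const [Finite σ] {a : σ → MvPowerSeries σ R}
    (ha : ∀ i, constantCoeff (a i) = 0) : HasSubst a :=
  hasSubst_of_constantCoeff_zero ha

theorem coeff_subst_eq_of_tangent [Finite σ] {a : σ → MvPowerSeries σ R} (ha : IsTangentId a)
    {n : ℕ} {f : MvPowerSeries σ R} (hf : VanishBelow n f) :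
    VanishBelow (n + 1) (subst a f - f) := by
  classical
  intro d hd
  rw [map_sub, coeff_subst (hasSubst_of_const ha.const), sub_eq_zero]
  rw [finsum_eq_single _ d]
  · have := ha.prod d d (by omega)
    rw [map_sub, coeff_monomial_same, sub_eq_zero] at this
    rw [this]; simp
  · intro e hne
    by_cases he : degree e < n
    · simp [hf e he]
    · have := ha.prod e d (by omega)
      rw [map_sub, sub_eq_zero, coeff_monomial, if_neg (Ne.symm hne)] at this
      rw [this]; simp

theorem bijective_subst_of_tangent [Finite σ] {a : σ → MvPowerSeries σ R} (ha : IsTangentId a) :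
    Function.Bijective (subst (R := R) a) := by
  classical
  have hS := hasSubst_of_const ha.const
  let θ := substAlgHom (R := R) hS
  have hθ : ∀ f, θ f = subst a f := substAlgHom_apply hS
  have key : ∀ {n : ℕ} {f : MvPowerSeries σ R}, VanishBelow n f →
      VanishBelow (n + 1) (θ f - f) := by
    intro n f h; rw [hθ]; exact coeff_subst_eq_of_tangent ha h
  refine ⟨fun f g hfg => ?_, fun f => ?_⟩
  · have h0 : θ (f - g) = 0 := by rw [map_sub, hθ, hθ, hfg, sub_self]
    have : ∀ n, VanishBelow n (f - g) := by
      intro n
      induction n with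
      | zero => intro d hd; omega
      | succ n ih =>
        have := key ih
        rw [h0, zero_sub] at this
        intro d hd
        exact neg_eq_zero.1 (by simpa only [map_neg] using this d hd)
    rw [← sub_eq_zero]
    ext d; simpa using this (degree d + 1) d (Nat.lt_succ_self _)
  · let g : ℕ → MvPowerSeries σ R := fun k => Nat.rec f (fun _ gk => f - (θ gk - gk)) k
    have hg0 : g 0 = f := rfl
    have hgs : ∀ k, g (k + 1) = f - (θ (g k) - g k) := fun k => rfl
    have hg : ∀ k, VanishBelow (k + 1) (g (k + 1) - g k) := by
      intro k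
      induction k with
      | zero =>
        have e0 : g (0 + 1) - g 0 = -(θ f - f) := by rw [hgs, hg0]; ring
        rw [e0]; intro d hd
        rw [map_neg, key (n := 0) (fun _ h => absurd h (Nat.not_lt_zero _)) d hd, neg_zero]
      | succ k ih =>
        have e1 : g (k + 1 + 1) - g (k + 1)
            = -(θ (g (k + 1) - g k) - (g (k + 1) - g k)) := by
          rw [map_sub, hgs (k + 1)]
          linear_combination -(hgs k)
        rw [e1]; intro d hd; rw [map_neg, key ih d hd, neg_zero]
    let G : MvPowerSeries σ R := fun d => coeff d (g (degree d))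
    have hG : ∀ d, coeff d G = coeff d (g (degree d)) := fun d => rfl
    have hst : ∀ d j, coeff d (g (degree d + j)) = coeff d (g (degree d)) := by
      intro d j
      induction j with
      | zero => rfl
      | succ j ih =>
        have := hg (degree d + j) d (by omega)
        rw [map_sub, sub_eq_zero] at this
        rw [← ih]; exact this
    have hGm : ∀ m, VanishBelow (m + 1) (G - g m) := by
      intro m d hd
      obtain ⟨j, rfl⟩ : ∃ j, m = degree d + j := ⟨m - degree d, by omega⟩
      rw [map_sub, hG, hst, sub_self]
    refine ⟨G, ?_⟩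
    rw [← hθ]
    ext d
    set m := degree d
    have h1 := (key (hGm m)).mono (Nat.le_succ _) d (Nat.lt_succ_self _)
    have h2 := hg m d (Nat.lt_succ_self _)
    have h3 : g (m + 1) = f - (θ (g m) - g m) := rfl
    rw [h3] at h2
    have h4 := hGm m d (Nat.lt_succ_self _)
    simp only [map_sub] at h1 h2 h4
    linear_combination h1 - h2 + h4

/-- The linear substitution of a matrix. -/
noncomputable def linSubst [Fintype σ] (M : Matrix σ σ R) : σ → MvPowerSeries σ R :=
  fun i => ∑ j, C (M i j) * X j

theorem bijective_subst [Fintype σ] [DecidableEq σ] (a : σ → MvPowerSeries σ R)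
    (M : Matrix σ σ R) (hM : IsUnit M.det)
    (ha : ∀ i, VanishBelow 2 (a i - linSubst M i)) : Function.Bijective (subst (R := R) a) := by
  classical
  have hc : ∀ (M : Matrix σ σ R) i, constantCoeff (linSubst M i) = 0 := by
    intro M i; simp [linSubst]
  have hac : ∀ i, constantCoeff (a i) = 0 := fun i => by
    have := vanishBelow_one_iff.1 ((ha i).mono (by norm_num : 1 ≤ 2))
    simpa [hc M i] using this
  let A := substAlgHom (R := R) (hasSubst_of_const hac)
  let L : Matrix σ σ R → (MvPowerSeries σ R →ₐ[R] MvPowerSeries σ R) :=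
    fun M => substAlgHom (hasSubst_of_const (hc M))
  have hCA : ∀ (F : MvPowerSeries σ R →ₐ[R] MvPowerSeries σ R) (r : R), F (C r) = C r :=
    fun F r => F.commutes r
  have hcomp : ∀ (b : σ → MvPowerSeries σ R) (hb : ∀ i, constantCoeff (b i) = 0) (N : Matrix σ σ R)
      (f : MvPowerSeries σ R),
      subst b (subst (linSubst N) f) = subst (fun i => ∑ j, C (N i j) * b j) f := by
    intro b hb N f
    rw [subst_comp_subst_apply (hasSubst_of_const (hc N)) (hasSubst_of_const hb)]
    congr 1
    funext i
    rw [← substAlgHom_apply (R := R) (hasSubst_of_const hb), linSubst, map_sum]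
    simp only [map_mul, hCA, substAlgHom_X]
  let N := M⁻¹
  have hNM : ∀ i k, ∑ j, N i j * M j k = if i = k then 1 else 0 := fun i k => by
    rw [← Matrix.mul_apply, Matrix.nonsing_inv_mul M hM, Matrix.one_apply]
  have h1 : Function.Bijective (subst (R := R) a ∘ subst (R := R) (linSubst N)) := by
    have : (subst (R := R) a ∘ subst (R := R) (linSubst N))
        = subst (fun i => ∑ j, C (N i j) * a j) := funext (hcomp a hac N)
    rw [this]
    apply bijective_subst_of_tangent
    intro i
    have e : (∑ j, C (N i j) * a j) - X i = ∑ j, C (N i j) * (a j - linSubst M j) := by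
      simp only [mul_sub, Finset.sum_sub_distrib]
      congr 1
      simp only [linSubst, Finset.mul_sum, ← mul_assoc, ← map_mul]
      rw [Finset.sum_comm]
      simp only [← Finset.sum_mul, ← map_sum, hNM]
      simp [apply_ite C, ite_mul]
    rw [e]
    intro d hd
    rw [map_sum]
    exact Finset.sum_eq_zero fun j _ => by rw [coeff_C_mul, ha j d hd, mul_zero]
  have h2 : Function.Bijective (subst (R := R) (linSubst (σ := σ) N)) := by
    have hid : ∀ P Q : Matrix σ σ R, P * Q = 1 →
        ∀ f, subst (linSubst Q) (subst (linSubst P) f) = f := by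
      intro P Q hPQ f
      rw [hcomp _ (hc Q) P f]
      have : (fun i => ∑ j, C (P i j) * linSubst Q j) = X := by
        funext i
        simp only [linSubst, Finset.mul_sum, ← mul_assoc, ← map_mul]
        rw [Finset.sum_comm]
        simp only [← Finset.sum_mul, ← map_sum, ← Matrix.mul_apply, hPQ, Matrix.one_apply]
        simp [apply_ite C, ite_mul]
      rw [this, subst_self, id]
    exact Function.bijective_iff_has_inverse.2 ⟨subst (linSubst M),
      hid N M (Matrix.nonsing_inv_mul M hM), hid M N (Matrix.mul_nonsing_inv M hM)⟩
  exact (Function.Bijective.of_comp_iff _ h2).1 h1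

/-- The automorphism given by an invertible substitution; its inverse sends `subst a f` to `f`. -/
theorem exists_algEquiv [Fintype σ] [DecidableEq σ] (a : σ → MvPowerSeries σ R)
    (M : Matrix σ σ R) (hM : IsUnit M.det)
    (ha : ∀ i, VanishBelow 2 (a i - linSubst M i)) (hs : HasSubst a) :
    ∃ φ : MvPowerSeries σ R ≃ₐ[R] MvPowerSeries σ R, ∀ f, φ (substAlgHom (R := R) hs f) = f := by
  have hb : Function.Bijective (substAlgHom (R := R) hs) := by
    rw [coe_substAlgHom]; exact bijective_subst a M hM ha
  exact ⟨(AlgEquiv.ofBijective _ hb).symm, fun f => (AlgEquiv.ofBijective _ hb).symm_apply_apply f⟩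

end Groth.Agent.KumFam
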